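import Mathlib
import Cfsg.Agent.S2505

/-!
# Abelian groups of even permutations

An abelian group of even permutations has order at most `bd n`, the largest product of a partition
of `n` without a part equal to two, and this is attained.
-/

set_option autoImplicit false
set_option linter.unusedSectionVars false

namespace Cfsg.Agent.Perm.AbelianEven

/-- The largest product of a partition without parts equal to two. -/
def bd (n : ℕ) : ℕ :=
  if n < 6 then (if n ≤ 2 then 1 else n)
  else if n % 3 = 0 then 3 ^ (n / 3) else if n % 3 = 1 then 4 * 3 ^ (n / 3 - 1)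
  else 16 * 3 ^ (n / 3 - 2)

theorem bd_add_three {n : ℕ} (hn : 6 ≤ n) : bd (n + 3) = 3 * bd n := by
  have e1 : (n + 3) % 3 = n % 3 := Nat.add_mod_right n 3
  have e2 : (n + 3) / 3 = n / 3 + 1 := Nat.add_div_right n (by norm_num)
  have h2 : 2 ≤ n / 3 := by omega
  simp only [bd, e1, e2, if_neg (show ¬ n + 3 < 6 by omega), if_neg (show ¬ n < 6 by omega)]
  split_ifs
  · ring
  · rw [show n / 3 + 1 - 1 = n / 3 - 1 + 1 by omega]; ring
  · rw [show n / 3 + 1 - 2 = n / 3 - 2 + 1 by omega]; ring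

theorem bd_pos (n : ℕ) : 0 < bd n := by
  simp only [bd]
  split_ifs <;> first | omega | positivity

theorem bd_mul (a b : ℕ) : bd a * bd b ≤ bd (a + b) := by
  induction a using Nat.strong_induction_on generalizing b with
  | _ a iha =>
    by_cases ha : 9 ≤ a
    · obtain ⟨a, rfl⟩ : ∃ a', a = a' + 3 := ⟨a - 3, by omega⟩
      rw [bd_add_three (by omega), show a + 3 + b = a + b + 3 by ring, bd_add_three (by omega),
        mul_assoc]
      exact Nat.mul_le_mul_left 3 (iha a (by omega) b)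
    · induction b using Nat.strong_induction_on with
      | _ b ihb =>
        by_cases hb : 9 ≤ b
        · obtain ⟨b, rfl⟩ : ∃ b', b = b' + 3 := ⟨b - 3, by omega⟩
          rw [bd_add_three (by omega), ← add_assoc, bd_add_three (by omega), mul_left_comm]
          exact Nat.mul_le_mul_left 3 (ihb b (by omega))
        · have key : ∀ a < 9, ∀ b < 9, bd a * bd b ≤ bd (a + b) := by decide +kernel
          exact key a (by omega) b (by omega)

/-- A part other than three, four (or five, alone) is not optimal. -/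
theorem part_cases (m : ℕ) (hm : m ≠ 2) : m ≤ bd m ∧ (6 ≤ m → m < bd m) := by
  induction m using Nat.strong_induction_on with
  | _ m ih =>
    by_cases h : 9 ≤ m
    · obtain ⟨m, rfl⟩ : ∃ m', m = m' + 3 := ⟨m - 3, by omega⟩
      obtain ⟨h1, -⟩ := ih m (by omega) (by omega)
      rw [bd_add_three (by omega)]
      exact ⟨by omega, fun _ => by omega⟩
    · have key : ∀ m < 9, m ≠ 2 → m ≤ bd m ∧ (6 ≤ m → m < bd m) := by decide +kernel
      exact key m (by omega) hm

theorem bd_strict (N : ℕ) : (5 ≤ N → bd N < bd (N + 1)) ∧ (1 ≤ N → 5 * bd N < bd (N + 5)) ∧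
    64 * bd N < bd (N + 12) := by
  induction N using Nat.strong_induction_on with
  | _ N ih =>
    by_cases h : 9 ≤ N
    · obtain ⟨N, rfl⟩ : ∃ N', N = N' + 3 := ⟨N - 3, by omega⟩
      obtain ⟨h1, h2, h3⟩ := ih N (by omega)
      have := h1 (by omega)
      have := h2 (by omega)
      have e0 := bd_add_three (n := N) (by omega)
      have e1 : bd (N + 3 + 1) = 3 * bd (N + 1) := by
        rw [add_right_comm]; exact bd_add_three (by omega)
      have e5 : bd (N + 3 + 5) = 3 * bd (N + 5) := by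
        rw [add_right_comm]; exact bd_add_three (by omega)
      have e12 : bd (N + 3 + 12) = 3 * bd (N + 12) := by
        rw [add_right_comm]; exact bd_add_three (by omega)
      omega
    · have key : ∀ N < 9, (5 ≤ N → bd N < bd (N + 1)) ∧ (1 ≤ N → 5 * bd N < bd (N + 5)) ∧
          64 * bd N < bd (N + 12) := by decide +kernel
      exact key N (by omega)

theorem g_sub_two_lt (m : ℕ) (hm : 1 ≤ m) : S2505.g m < bd (m + 2) := by
  induction m using Nat.strong_induction_on with
  | _ m ih =>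
    by_cases h : 7 ≤ m
    · obtain ⟨m, rfl⟩ : ∃ m', m = m' + 3 := ⟨m - 3, by omega⟩
      have hg : S2505.g (m + 3) = 3 * S2505.g m := by
        rcases S2505.cases3 m with rfl | ⟨i, rfl⟩ | ⟨i, rfl⟩ | ⟨i, rfl⟩
        · omega
        · rw [show 3 * i + 3 = 3 * (i + 1) by ring, S2505.g0, S2505.g0]; ring
        · rw [show 3 * (i + 1) + 1 + 3 = 3 * (i + 1 + 1) + 1 by ring, S2505.g1, S2505.g1]; ring
        · rw [show 3 * i + 2 + 3 = 3 * (i + 1) + 2 by ring, S2505.g2, S2505.g2]; ring
      have := ih m (by omega) (by omega)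
      rw [hg, show m + 3 + 2 = m + 2 + 3 by ring, bd_add_three (by omega)]
      omega
    · have key : ∀ m < 7, 1 ≤ m → S2505.g m < bd (m + 2) := by decide +kernel
      exact key m (by omega) hm

variable {ι : Type*}

theorem prod_le (s : Finset ι) (c : ι → ℕ) (hc : ∀ i ∈ s, c i ≠ 2) :
    ∏ i ∈ s, c i ≤ bd (∑ i ∈ s, c i) := by
  classical
  induction s using Finset.induction_on with
  | empty => simp [bd]
  | insert a s ha ih =>
    rw [Finset.prod_insert ha, Finset.sum_insert ha]
    exact (Nat.mul_le_mul (part_cases _ (hc a (Finset.mem_insert_self a s))).1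
      (ih fun i hi => hc i (Finset.mem_insert_of_mem hi))).trans (bd_mul _ _)

/-- An optimal partition consists of threes and at most two fours. -/
theorem prod_eq_shape [Fintype ι] (c : ι → ℕ) (hc : ∀ i, c i ≠ 2) (hn : 3 ≤ ∑ i, c i)
    (h5 : ∑ i, c i ≠ 5) (h : bd (∑ i, c i) ≤ ∏ i, c i) :
    (∀ i, c i = 3 ∨ c i = 4) ∧ (Finset.univ.filter fun i => c i = 4).card ≤ 2 := by
  classical
  have hall : ∀ i, c i = 3 ∨ c i = 4 := by
    intro i
    by_contra hi
    push Not at hi
    rw [← Finset.add_sum_erase Finset.univ c (Finset.mem_univ i)] at h hn h5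
    rw [← Finset.mul_prod_erase Finset.univ c (Finset.mem_univ i)] at h
    set N := ∑ j ∈ Finset.univ.erase i, c j
    have hp : ∏ j ∈ Finset.univ.erase i, c j ≤ bd N := prod_le _ c fun j _ => hc j
    have hle : bd (c i + N) ≤ c i * bd N := h.trans (Nat.mul_le_mul_left _ hp)
    have hm := part_cases (c i) (hc i)
    have hs := bd_strict N
    have hb := bd_pos N
    by_cases h0 : c i = 0
    · rw [h0, zero_mul] at hle
      exact (bd_pos _).ne' (Nat.le_zero.1 hle)
    by_cases h1 : c i = 1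
    · rw [h1, one_mul, add_comm 1 N] at hle
      by_cases hN : 5 ≤ N
      · exact (hs.1 hN).not_ge hle
      · have key : ∀ N < 5, 2 ≤ N → N ≠ 4 → bd N < bd (N + 1) := by decide +kernel
        exact (key N (by omega) (by omega) (by omega)).not_ge hle
    by_cases h5' : c i = 5
    · rw [h5', add_comm 5 N] at hle
      exact (hs.2.1 (by omega)).not_ge hle
    · have h6 : 6 ≤ c i := by have := hc i; omega
      exact ((Nat.mul_lt_mul_of_pos_right (hm.2 h6) hb).trans_le (bd_mul _ _)).not_ge hle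
  refine ⟨hall, ?_⟩
  by_contra h3
  push Not at h3
  obtain ⟨t, ht, htc⟩ := Finset.exists_subset_card_eq (s := Finset.univ.filter fun i => c i = 4) h3
  have hte : ∀ i ∈ t, c i = 4 := fun i hi => (Finset.mem_filter.1 (ht hi)).2
  rw [← Finset.sum_add_sum_compl t c, ← Finset.prod_mul_prod_compl t c, Finset.sum_congr rfl hte,
    Finset.prod_congr rfl hte, Finset.sum_const, Finset.prod_const, htc, smul_eq_mul,
    show 3 * 4 = 12 from rfl, show 4 ^ 3 = 64 from rfl, add_comm 12] at h
  exact ((Nat.mul_le_mul_left 64 (prod_le tᶜ c fun j _ => hc j)).trans_lt (bd_strict _).2.2).not_ge h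

section group

variable {α : Type*} [Fintype α] [DecidableEq α]

/-- The orbits. -/
abbrev Orb (A : Subgroup (Equiv.Perm α)) := Quotient (MulAction.orbitRel A α)

/-- The class of a point. -/
abbrev cl (A : Subgroup (Equiv.Perm α)) (x : α) : Orb A := Quotient.mk (MulAction.orbitRel A α) x

theorem cl_smul (A : Subgroup (Equiv.Perm α)) (a : A) (x : α) : cl A ((a : Equiv.Perm α) x) = cl A x :=
  Quotient.sound ⟨a, rfl⟩

theorem exists_apply_eq (A : Subgroup (Equiv.Perm α)) {x y : α} (h : cl A y = cl A x) :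
    ∃ a : A, (a : Equiv.Perm α) x = y :=
  Quotient.exact h

theorem fix_of_fix (A : Subgroup (Equiv.Perm α)) [IsMulCommutative A] {a b : A} {x y : α}
    (h : cl A y = cl A x) (hx : (a : Equiv.Perm α) x = (b : Equiv.Perm α) x) :
    (a : Equiv.Perm α) y = (b : Equiv.Perm α) y := by
  obtain ⟨c, rfl⟩ := exists_apply_eq A h
  show ((a * c : A) : Equiv.Perm α) x = ((b * c : A) : Equiv.Perm α) x
  rw [mul_comm' a c, mul_comm' b c]
  show (c : Equiv.Perm α) ((a : Equiv.Perm α) x) = (c : Equiv.Perm α) ((b : Equiv.Perm α) x)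
  rw [hx]

variable (A : Subgroup (Equiv.Perm α))

/-- The points of an orbit. -/
abbrev Fib (o : Orb A) := {x : α // cl A x = o}

/-- Evaluation at the representatives. -/
noncomputable def evalMap (a : A) (o : Orb A) : Fib A o :=
  ⟨(a : Equiv.Perm α) o.out, (cl_smul A a _).trans (Quotient.out_eq o)⟩

variable [IsMulCommutative A]

theorem evalMap_injective : Function.Injective (evalMap A) := by
  intro a b h
  refine Subtype.ext (Equiv.ext fun x => ?_)
  exact fix_of_fix A (x := (cl A x).out) (Quotient.out_eq (cl A x)).symm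
    (congrArg Subtype.val (congrFun h (cl A x)))

theorem card_le_prod [Fintype (Orb A)] : Nat.card A ≤ ∏ o : Orb A, Nat.card (Fib A o) := by
  classical
  rw [← Nat.card_pi]
  exact Nat.card_le_card_of_injective _ (evalMap_injective A)

theorem sum_card_fib [Fintype (Orb A)] : ∑ o : Orb A, Nat.card (Fib A o) = Fintype.card α := by
  rw [← Nat.card_sigma, Nat.card_congr (Equiv.sigmaFiberEquiv (cl A)), Nat.card_eq_fintype_card]

/-- A pair orbit of even permutations is redundant. -/
theorem card_le_of_pair [Fintype (Orb A)] (hev : ∀ a ∈ A, Equiv.Perm.sign a = 1) {o₀ : Orb A}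
    (h : Nat.card (Fib A o₀) = 2) : Nat.card A ≤ S2505.g (Fintype.card α - 2) := by
  classical
  have hinj : Function.Injective fun (a : A) (o : {o : Orb A // o ≠ o₀}) => evalMap A a o := by
    intro a b e
    have hout : ∀ x, cl A x ≠ o₀ → (a : Equiv.Perm α) x = (b : Equiv.Perm α) x := fun x hx =>
      fix_of_fix A (x := (cl A x).out) (Quotient.out_eq (cl A x)).symm
        (congrArg Subtype.val (congrFun e ⟨cl A x, hx⟩))
    obtain ⟨u, v, huv, huni⟩ := Nat.card_eq_two_iff.1 h
    have hmem : ∀ x : α, cl A x = o₀ → x = u.1 ∨ x = v.1 := fun x hx => by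
      have : (⟨x, hx⟩ : Fib A o₀) ∈ ({u, v} : Set (Fib A o₀)) := huni ▸ Set.mem_univ _
      rcases this with e' | e'
      · exact Or.inl (congrArg Subtype.val e')
      · exact Or.inr (congrArg Subtype.val (Set.mem_singleton_iff.1 e'))
    by_contra hne
    set w : Equiv.Perm α := (a : Equiv.Perm α)⁻¹ * b
    have hw1 : w ≠ 1 := fun e' => hne (Subtype.ext (inv_mul_eq_one.1 e'))
    have hwA : w ∈ A := A.mul_mem (A.inv_mem a.2) b.2
    have hsupp : w.support ⊆ {u.1, v.1} := by
      intro x hx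
      rw [Equiv.Perm.mem_support] at hx
      rw [Finset.mem_insert, Finset.mem_singleton]
      refine hmem x (not_not.1 fun hx' => hx ?_)
      show (a : Equiv.Perm α)⁻¹ ((b : Equiv.Perm α) x) = x
      rw [← hout x hx']
      simp
    have h2 : w.support.card = 2 := by
      have h' := Finset.card_le_card hsupp
      rw [Finset.card_pair (fun e' => huv (Subtype.ext e'))] at h'
      have := Equiv.Perm.two_le_card_support_of_ne_one hw1
      omega
    have hs := (Equiv.Perm.card_support_eq_two.1 h2).sign_eq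
    rw [hev w hwA] at hs
    exact absurd hs (by decide)
  refine (Nat.card_le_card_of_injective _ hinj).trans ?_
  rw [Nat.card_pi]
  refine (S2505.prod_le _ _).trans (le_of_eq (congrArg S2505.g ?_))
  rw [← sum_card_fib A, ← Finset.sum_subtype (Finset.univ.erase o₀)
    (fun o => by simp) (fun o => Nat.card (Fib A o))]
  have := Finset.add_sum_erase Finset.univ (fun o => Nat.card (Fib A o)) (Finset.mem_univ o₀)
  omega

theorem card_le_bd (hev : ∀ a ∈ A, Equiv.Perm.sign a = 1) : Nat.card A ≤ bd (Fintype.card α) := by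
  classical
  haveI : Fintype (Orb A) := Fintype.ofFinite _
  by_cases h : ∃ o : Orb A, Nat.card (Fib A o) = 2
  · obtain ⟨o, ho⟩ := h
    refine (card_le_of_pair A hev ho).trans ?_
    have h2 : 2 ≤ Fintype.card α := ho ▸ (Finset.single_le_sum (fun _ _ => Nat.zero_le _)
      (Finset.mem_univ o)).trans_eq (sum_card_fib A)
    obtain ⟨m, hm⟩ : ∃ m, Fintype.card α = m + 2 := ⟨Fintype.card α - 2, by omega⟩
    rw [hm, Nat.add_sub_cancel]
    rcases Nat.eq_zero_or_pos m with rfl | hm0
    · decide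
    · exact (g_sub_two_lt m hm0).le
  · push Not at h
    exact (card_le_prod A).trans ((prod_le _ _ fun o _ => h o).trans (le_of_eq (by rw [sum_card_fib])))

end group

/-- There is an abelian group of even permutations of order `c` in degree `n`. -/
def EAch (n c : ℕ) : Prop :=
  ∃ A : Subgroup (Equiv.Perm (Fin n)), IsMulCommutative A ∧ (∀ a ∈ A, Equiv.Perm.sign a = 1) ∧
    Nat.card A = c

theorem eAch_mul {m n c d : ℕ} (hc : EAch m c) (hd : EAch n d) : EAch (m + n) (c * d) := by
  obtain ⟨A, hA, hA1, rfl⟩ := hc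
  obtain ⟨B, hB, hB1, rfl⟩ := hd
  let φ := (finSumFinEquiv (m := m) (n := n)).permCongrHom.toMonoidHom.comp
    (Equiv.Perm.sumCongrHom (Fin m) (Fin n))
  have hφ : Function.Injective φ :=
    ((finSumFinEquiv (m := m) (n := n)).permCongrHom.injective).comp Equiv.Perm.sumCongrHom_injective
  refine ⟨(A.prod B).map φ, ⟨⟨?_⟩⟩, ?_, ?_⟩
  · rintro ⟨_, ⟨a, ha, rfl⟩⟩ ⟨_, ⟨b, hb, rfl⟩⟩
    refine Subtype.ext ?_
    show φ a * φ b = φ b * φ a
    rw [← map_mul, ← map_mul]
    refine congrArg φ (Prod.ext ?_ ?_)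
    · exact congrArg Subtype.val (hA.is_comm.comm (⟨a.1, ha.1⟩ : A) ⟨b.1, hb.1⟩)
    · exact congrArg Subtype.val (hB.is_comm.comm (⟨a.2, ha.2⟩ : B) ⟨b.2, hb.2⟩)
  · rintro _ ⟨⟨a, b⟩, ⟨ha, hb⟩, rfl⟩
    show Equiv.Perm.sign ((finSumFinEquiv (m := m) (n := n)).permCongr (Equiv.Perm.sumCongr a b)) = 1
    rw [Equiv.Perm.sign_permCongr, Equiv.Perm.sign_sumCongr, hA1 a ha, hB1 b hb, one_mul]
  · rw [Subgroup.card_map_of_injective hφ, Nat.card_congr (Subgroup.prodEquiv A B).toEquiv,
      Nat.card_prod]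

theorem eAch_cycle (p : ℕ) [Fact p.Prime] (h : finRotate p ^ p = 1) (h1 : finRotate p ≠ 1)
    (hs : Equiv.Perm.sign (finRotate p) = 1) : EAch p p :=
  ⟨Subgroup.zpowers (finRotate p), inferInstance, by
    intro a ha
    obtain ⟨k, rfl⟩ := Subgroup.mem_zpowers_iff.1 ha
    rw [map_zpow, hs, one_zpow], by rw [Nat.card_zpowers, orderOf_eq_prime h h1]⟩

theorem eAch_four : EAch 4 4 := by
  let V : Subgroup (Equiv.Perm (Fin 4)) :=
    { carrier := {σ | σ * σ = 1 ∧ Equiv.Perm.sign σ = 1}
      one_mem' := ⟨mul_one 1, map_one _⟩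
      mul_mem' := fun {a b} ha hb => by
        have key : ∀ a b : Equiv.Perm (Fin 4), a * a = 1 → Equiv.Perm.sign a = 1 → b * b = 1 →
            Equiv.Perm.sign b = 1 → (a * b) * (a * b) = 1 := by decide +kernel
        exact ⟨key a b ha.1 ha.2 hb.1 hb.2, by rw [map_mul, ha.2, hb.2, mul_one]⟩
      inv_mem' := fun {a} ha => by rwa [inv_eq_of_mul_eq_one_right ha.1] }
  refine ⟨V, ⟨⟨?_⟩⟩, fun a ha => ha.2, ?_⟩
  · intro a b
    have key : ∀ a b : Equiv.Perm (Fin 4), a * a = 1 → Equiv.Perm.sign a = 1 → b * b = 1 →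
        Equiv.Perm.sign b = 1 → a * b = b * a := by decide +kernel
    exact Subtype.ext (key a b a.2.1 a.2.2 b.2.1 b.2.2)
  · show Nat.card {σ : Equiv.Perm (Fin 4) // σ * σ = 1 ∧ Equiv.Perm.sign σ = 1} = 4
    rw [Nat.card_eq_fintype_card]
    decide +kernel

theorem eAch_zero : EAch 0 1 := ⟨⊥, ⟨⟨fun _ _ => Subsingleton.elim _ _⟩⟩,
  fun a ha => by rw [Subgroup.mem_bot.1 ha, map_one], Subgroup.card_bot⟩

theorem eAch_threes : ∀ k, EAch (3 * k) (3 ^ k)
  | 0 => eAch_zero
  | k + 1 => by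
    haveI : Fact (Nat.Prime 3) := ⟨Nat.prime_three⟩
    rw [Nat.mul_succ, pow_succ]
    exact eAch_mul (eAch_threes k) (eAch_cycle 3 (by decide) (by decide) (by decide))

theorem bd_three (k : ℕ) (hk : 1 ≤ k) : bd (3 * k) = 3 ^ k := by
  rcases Nat.lt_or_ge k 2 with h | h
  · obtain rfl : k = 1 := by omega
    decide
  · simp [bd, show ¬ 3 * k < 6 by omega]

theorem bd_four (i : ℕ) : bd (3 * i + 4) = 4 * 3 ^ i := by
  rcases Nat.eq_zero_or_pos i with rfl | h
  · decide
  · simp [bd, show ¬ 3 * i + 4 < 6 by omega, show (3 * i + 4) % 3 = 1 by omega,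
      show (3 * i + 4) / 3 - 1 = i by omega]

theorem bd_eight (i : ℕ) : bd (3 * i + 8) = 16 * 3 ^ i := by
  simp [bd, show ¬ 3 * i + 8 < 6 by omega, show (3 * i + 8) % 3 = 2 by omega,
    show (3 * i + 8) / 3 - 2 = i by omega]

theorem eAch_bd (n : ℕ) (hn : 3 ≤ n) : EAch n (bd n) := by
  rcases (show n % 3 = 0 ∨ n % 3 = 1 ∨ n = 5 ∨ (n % 3 = 2 ∧ 8 ≤ n) by omega) with h | h | rfl | ⟨h, h8⟩
  · obtain ⟨k, rfl⟩ : ∃ k, n = 3 * k := ⟨n / 3, by omega⟩
    rw [bd_three k (by omega)]
    exact eAch_threes k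
  · obtain ⟨i, rfl⟩ : ∃ i, n = 3 * i + 4 := ⟨n / 3 - 1, by omega⟩
    rw [bd_four, show 4 * 3 ^ i = 3 ^ i * 4 from mul_comm _ _]
    exact eAch_mul (eAch_threes i) eAch_four
  · haveI : Fact (Nat.Prime 5) := ⟨by norm_num⟩
    exact eAch_cycle 5 (by decide +kernel) (by decide) (by decide +kernel)
  · obtain ⟨i, rfl⟩ : ∃ i, n = 3 * i + 8 := ⟨n / 3 - 2, by omega⟩
    rw [bd_eight, show 3 * i + 8 = 3 * i + (4 + 4) from rfl, show 16 * 3 ^ i = 3 ^ i * (4 * 4) by ring]
    exact eAch_mul (eAch_threes i) (eAch_mul eAch_four eAch_four)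

/-- Subgroups of the alternating group as groups of even permutations. -/
theorem exists_alt {n c : ℕ} (h : EAch n c) :
    ∃ A : Subgroup (alternatingGroup (Fin n)), IsMulCommutative A ∧ Nat.card A = c := by
  obtain ⟨A, hA, hA1, rfl⟩ := h
  have hle : A ≤ alternatingGroup (Fin n) := fun a ha => Equiv.Perm.mem_alternatingGroup.2 (hA1 a ha)
  refine ⟨A.subgroupOf _, ⟨⟨fun a b => Subtype.ext (Subtype.ext ?_)⟩⟩,
    Nat.card_congr (Subgroup.subgroupOfEquivOfLe hle).toEquiv⟩
  have h2 : ((a : alternatingGroup (Fin n)) : Equiv.Perm (Fin n)) * (b : alternatingGroup (Fin n)) =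
      (b : alternatingGroup (Fin n)) * ((a : alternatingGroup (Fin n)) : Equiv.Perm (Fin n)) :=
    congrArg Subtype.val (hA.is_comm.comm (⟨_, Subgroup.mem_subgroupOf.1 a.2⟩ : A)
      ⟨_, Subgroup.mem_subgroupOf.1 b.2⟩)
  exact h2

theorem alt_image {n : ℕ} (A : Subgroup (alternatingGroup (Fin n))) (hA : IsMulCommutative A) :
    IsMulCommutative (A.map (alternatingGroup (Fin n)).subtype) ∧
      (∀ a ∈ A.map (alternatingGroup (Fin n)).subtype, Equiv.Perm.sign a = 1) ∧
      Nat.card (A.map (alternatingGroup (Fin n)).subtype) = Nat.card A := by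
  refine ⟨⟨⟨?_⟩⟩, ?_, Subgroup.card_map_of_injective (Subgroup.subtype_injective _)⟩
  · rintro ⟨_, ⟨a, ha, rfl⟩⟩ ⟨_, ⟨b, hb, rfl⟩⟩
    have h := congrArg Subtype.val (hA.is_comm.comm (⟨a, ha⟩ : A) ⟨b, hb⟩)
    have h2 : (a : Equiv.Perm (Fin n)) * b = b * a := congrArg Subtype.val h
    exact Subtype.ext h2
  · rintro _ ⟨a, -, rfl⟩
    exact Equiv.Perm.mem_alternatingGroup.1 a.2

theorem isGreatest_alt (n : ℕ) (hn : 3 ≤ n) :
    IsGreatest {c : ℕ | ∃ A : Subgroup (alternatingGroup (Fin n)), IsMulCommutative A ∧ Nat.card A = c}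
      (bd n) := by
  refine ⟨exists_alt (eAch_bd n hn), ?_⟩
  rintro c ⟨A, hA, rfl⟩
  obtain ⟨h1, h2, h3⟩ := alt_image A hA
  haveI := h1
  rw [← h3]
  exact (card_le_bd _ h2).trans_eq (by rw [Fintype.card_fin])

end Cfsg.Agent.Perm.AbelianEven
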