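import Mathlib
import Cfsg.Agent.Lib.Perm.AbelianEven.Bound

/-!
# Largest abelian groups of even permutations are conjugate

Such a group is the product of regular groups of order three and Klein four-groups on its orbits,
so it is determined by the partition into orbits.
-/

set_option autoImplicit false
set_option linter.unusedSectionVars false

namespace Cfsg.Agent.Perm.AbelianEven

variable {α : Type*} [Fintype α] [DecidableEq α]

/-- A largest abelian group of even permutations. -/
structure IsMax (A : Subgroup (Equiv.Perm α)) : Prop where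
  comm : IsMulCommutative A
  even : ∀ a ∈ A, Equiv.Perm.sign a = 1
  card : bd (Fintype.card α) ≤ Nat.card A

variable {A : Subgroup (Equiv.Perm α)}

theorem card_le_fib {o : Orb A} (s : Finset α) (hs : ∀ u ∈ s, cl A u = o) :
    s.card ≤ Nat.card (Fib A o) := by
  rw [← Nat.card_eq_finsetCard]
  exact Nat.card_le_card_of_injective (fun u : {x // x ∈ s} => (⟨u.1, hs u.1 u.2⟩ : Fib A o))
    fun u v e => Subtype.ext (congrArg (fun w : Fib A o => w.1) e)

theorem IsMax.shape [Fintype (Orb A)] (h : IsMax A) (hn : 3 ≤ Fintype.card α)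
    (h5 : Fintype.card α ≠ 5) :
    (∀ o : Orb A, Nat.card (Fib A o) = 3 ∨ Nat.card (Fib A o) = 4) ∧
      (Finset.univ.filter fun o : Orb A => Nat.card (Fib A o) = 4).card ≤ 2 ∧
      Function.Surjective (evalMap A) := by
  classical
  haveI := h.comm
  have hno : ∀ o : Orb A, Nat.card (Fib A o) ≠ 2 := by
    intro o ho
    have h1 := h.card.trans (card_le_of_pair A h.even ho)
    obtain ⟨m, hm⟩ : ∃ m, Fintype.card α = m + 2 := ⟨Fintype.card α - 2, by omega⟩
    rw [hm, Nat.add_sub_cancel] at h1
    exact (g_sub_two_lt m (by omega)).not_ge h1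
  have hp : bd (∑ o : Orb A, Nat.card (Fib A o)) ≤ ∏ o : Orb A, Nat.card (Fib A o) := by
    rw [sum_card_fib]; exact h.card.trans (card_le_prod A)
  obtain ⟨h1, h2⟩ := prod_eq_shape _ hno (by rw [sum_card_fib]; exact hn)
    (by rw [sum_card_fib]; exact h5) hp
  refine ⟨h1, h2, ((evalMap_injective A).bijective_of_nat_card_le ?_).2⟩
  rw [Nat.card_pi]
  refine ((prod_le _ _ fun o _ => hno o).trans (le_of_eq ?_)).trans h.card
  rw [sum_card_fib]

/-- An element with a prescribed value in one orbit and trivial on the others. -/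
theorem IsMax.exists_isolated (h : IsMax A) (hn : 3 ≤ Fintype.card α) (h5 : Fintype.card α ≠ 5)
    {x y : α} (hy : cl A y = cl A x) :
    ∃ a : A, (a : Equiv.Perm α) x = y ∧ ∀ u, cl A u ≠ cl A x → (a : Equiv.Perm α) u = u := by
  classical
  haveI := h.comm
  haveI : Fintype (Orb A) := Fintype.ofFinite _
  obtain ⟨c, hc⟩ := exists_apply_eq A (x := x) (y := (cl A x).out) (Quotient.out_eq _)
  have hcy : cl A ((c : Equiv.Perm α) y) = cl A x := (cl_smul A c y).trans hy
  obtain ⟨a, ha⟩ := (h.shape hn h5).2.2 fun o =>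
    if e : o = cl A x then ⟨(c : Equiv.Perm α) y, hcy.trans e.symm⟩ else ⟨o.out, Quotient.out_eq o⟩
  refine ⟨a, ?_, fun u hu => ?_⟩
  · have h1 : (a : Equiv.Perm α) (cl A x).out = (c : Equiv.Perm α) y := by
      have h2 := congrArg Subtype.val (congrFun ha (cl A x))
      rw [dif_pos rfl] at h2
      exact h2
    rw [← hc] at h1
    refine (c : Equiv.Perm α).injective (Eq.trans ?_ h1)
    show ((c * a : A) : Equiv.Perm α) x = ((a * c : A) : Equiv.Perm α) x
    rw [mul_comm']
  · have h1 : (a : Equiv.Perm α) (cl A u).out = ((1 : A) : Equiv.Perm α) (cl A u).out := by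
      have h2 := congrArg Subtype.val (congrFun ha (cl A u))
      rw [dif_neg hu] at h2
      exact h2
    exact fix_of_fix A (Quotient.out_eq (cl A u)).symm h1

/-- On an orbit of size four every element squares to the identity. -/
theorem IsMax.sq_fix (h : IsMax A) (hn : 3 ≤ Fintype.card α) (h5 : Fintype.card α ≠ 5) {x : α}
    (h4 : Nat.card (Fib A (cl A x)) = 4) (a : A) :
    (a : Equiv.Perm α) ((a : Equiv.Perm α) x) = x := by
  classical
  haveI := h.comm
  obtain ⟨b, hb, hout⟩ := h.exists_isolated hn h5 (cl_smul A a x)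
  have hin : ∀ u, cl A u = cl A x → (b : Equiv.Perm α) u = (a : Equiv.Perm α) u := fun u hu =>
    fix_of_fix A hu hb
  set w : Equiv.Perm α := (b : Equiv.Perm α) with hw
  rw [← hb, ← hin _ ((congrArg (cl A) hb).trans (cl_smul A a x))]
  by_contra hne
  have hfree : ∀ u, cl A u = cl A x → w u = u → False := by
    intro u hu e
    have e' := fix_of_fix A (a := b) (b := 1) (x := u) (y := x) hu.symm e
    exact hne (by rw [show w x = x from e', show w x = x from e'])
  have hcls : ∀ u, cl A u = cl A x → cl A (w u) = cl A x := fun u hu => (cl_smul A b u).trans hu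
  set y := w x
  set z := w y
  set t := w z
  have hy := hcls x rfl
  have hz := hcls y hy
  have hyx : y ≠ x := fun e => hfree x rfl e
  have hzy : z ≠ y := fun e => hfree y hy e
  have htz : t ≠ z := fun e => hfree z hz e
  have hty : t ≠ y := fun e => hne (w.injective e)
  have ht := hcls z hz
  have hfour : ∀ u, cl A u = cl A x → u = x ∨ u = y ∨ u = z ∨ ∀ v, cl A v = cl A x →
      v = x ∨ v = y ∨ v = z ∨ v = u := by
    intro u hu
    by_contra hcon
    push Not at hcon
    obtain ⟨h1, h2, h3, v, hv, v1, v2, v3, v4⟩ := hcon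
    have h' := card_le_fib (A := A) (o := cl A x) {v, u, z, y, x}
      (by simp only [Finset.mem_insert, Finset.mem_singleton]
          rintro w' (rfl | rfl | rfl | rfl | rfl)
          exacts [hv, hu, hz, hy, rfl])
    rw [h4, Finset.card_insert_of_notMem (by simp [v4, v3, v2, v1]),
      Finset.card_insert_of_notMem (by simp [h3, h2, h1]),
      Finset.card_insert_of_notMem (by simp [hzy, hne]), Finset.card_pair hyx] at h'
    omega
  have htx : t ≠ x := by
    intro e
    obtain ⟨⟨u, hu⟩, hune⟩ : ∃ u : Fib A (cl A x), u.1 ≠ x ∧ u.1 ≠ y ∧ u.1 ≠ z := by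
      by_contra hcon
      push Not at hcon
      have hsur : Function.Surjective (![⟨x, rfl⟩, ⟨y, hy⟩, ⟨z, hz⟩] : Fin 3 → Fib A (cl A x)) := by
        intro u
        by_cases e1 : u.1 = x
        · exact ⟨0, Subtype.ext e1.symm⟩
        by_cases e2 : u.1 = y
        · exact ⟨1, Subtype.ext e2.symm⟩
        · exact ⟨2, Subtype.ext (hcon u e1 e2).symm⟩
      have h' := Nat.card_le_card_of_surjective _ hsur
      rw [h4, Nat.card_fin] at h'
      omega
    obtain ⟨h1, h2, h3⟩ := hune
    rcases hfour u hu with e' | e' | e' | e'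
    · exact h1 e'
    · exact h2 e'
    · exact h3 e'
    rcases e' (w u) (hcls u hu) with e'' | e'' | e'' | e''
    · exact h3 (w.injective (e''.trans e.symm))
    · exact h1 (w.injective e'')
    · exact h2 (w.injective e'')
    · exact hfree u hu e''
  have hzt : ∀ v, cl A v = cl A x → v = x ∨ v = y ∨ v = z ∨ v = t := by
    rcases hfour t ht with e | e | e | e
    · exact absurd e htx
    · exact absurd e hty
    · exact absurd e htz
    · exact e
  have hwt : w t = x := by
    rcases hzt (w t) (hcls t ht) with e | e | e | e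
    · exact e
    · exact absurd (w.injective e) htx
    · exact absurd (w.injective e) hty
    · exact absurd (w.injective e) htz
  have hx2 : z ≠ x := hne
  have hcyc : w = Equiv.swap x y * Equiv.swap y z * Equiv.swap z t := by
    refine Equiv.ext fun u => ?_
    by_cases hu : cl A u = cl A x
    · rcases hzt u hu with rfl | rfl | rfl | rfl
      · simp [Equiv.swap_apply_of_ne_of_ne hx2.symm htx.symm,
          Equiv.swap_apply_of_ne_of_ne hyx.symm hx2.symm]
        rfl
      · rw [Equiv.Perm.mul_apply, Equiv.Perm.mul_apply, Equiv.swap_apply_of_ne_of_ne hzy.symm hty.symm,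
          Equiv.swap_apply_left, Equiv.swap_apply_of_ne_of_ne hx2 hzy]
      · rw [Equiv.Perm.mul_apply, Equiv.Perm.mul_apply, Equiv.swap_apply_left,
          Equiv.swap_apply_of_ne_of_ne hty htz, Equiv.swap_apply_of_ne_of_ne htx hty]
      · rw [Equiv.Perm.mul_apply, Equiv.Perm.mul_apply, Equiv.swap_apply_right,
          Equiv.swap_apply_right, Equiv.swap_apply_right, hwt]
    · have hne' : ∀ v, cl A v = cl A x → u ≠ v := fun v hv e => hu (e ▸ hv)
      rw [Equiv.Perm.mul_apply, Equiv.Perm.mul_apply,
        Equiv.swap_apply_of_ne_of_ne (hne' z hz) (hne' t ht),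
        Equiv.swap_apply_of_ne_of_ne (hne' y hy) (hne' z hz),
        Equiv.swap_apply_of_ne_of_ne (hne' x rfl) (hne' y hy)]
      exact hout u hu
  have hs := h.even w b.2
  rw [hcyc, map_mul, map_mul, Equiv.Perm.sign_swap hyx.symm, Equiv.Perm.sign_swap hzy.symm,
    Equiv.Perm.sign_swap htz.symm] at hs
  exact absurd hs (by decide)

/-- A largest group is determined by its orbits. -/
theorem IsMax.le_of_orbits {B : Subgroup (Equiv.Perm α)} (h : IsMax A) (hB : IsMax B)
    (hn : 3 ≤ Fintype.card α) (h5 : Fintype.card α ≠ 5)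
    (he : ∀ x y, cl A x = cl A y ↔ cl B x = cl B y) : A ≤ B := by
  classical
  haveI := h.comm
  haveI := hB.comm
  haveI : Fintype (Orb A) := Fintype.ofFinite _
  haveI : Fintype (Orb B) := Fintype.ofFinite _
  intro a ha
  obtain ⟨b, hb⟩ := (hB.shape hn h5).2.2 fun o => ⟨a o.out,
    (((he _ _).1 (cl_smul A ⟨a, ha⟩ o.out)).trans (Quotient.out_eq o))⟩
  suffices a = (b : Equiv.Perm α) by rw [this]; exact b.2
  refine Equiv.ext fun v => ?_
  set x := (cl B v).out with hx
  set w := (b : Equiv.Perm α) with hw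
  have hv : cl B v = cl B x := (Quotient.out_eq _).symm
  have hvA : cl A v = cl A x := (he _ _).2 hv
  have hax : a x = w x := (congrArg Subtype.val (congrFun hb (cl B v))).symm
  set y := a x
  have hy : cl A y = cl A x := cl_smul A ⟨a, ha⟩ x
  by_cases hvx : v = x
  · rw [hvx]; exact hax
  by_cases hfix : y = x
  · have e1 := fix_of_fix A (a := ⟨a, ha⟩) (b := 1) hvA hfix
    have e2 := fix_of_fix B (a := b) (b := 1) hv (hax.symm.trans hfix)
    exact e1.trans e2.symm
  have hfree : ∀ u, cl A u = cl A x → a u ≠ u ∧ w u ≠ u := by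
    intro u hu
    refine ⟨fun e => hfix (fix_of_fix A (a := ⟨a, ha⟩) (b := 1) hu.symm e), fun e => hfix ?_⟩
    exact hax.trans (fix_of_fix B (a := b) (b := 1) ((he _ _).1 hu).symm e)
  have hclw : ∀ u, cl A u = cl A x → cl A (w u) = cl A x :=
    fun u hu => ((he _ _).2 (cl_smul B b u)).trans hu
  have hcla : ∀ u, cl A u = cl A x → cl A (a u) = cl A x :=
    fun u hu => (cl_smul A ⟨a, ha⟩ u).trans hu
  have heq : Nat.card (Fib B (cl B x)) = Nat.card (Fib A (cl A x)) :=
    Nat.card_congr (Equiv.subtypeEquivRight fun u => (he u x).symm)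
  rcases (h.shape hn h5).1 (cl A x) with h3 | h4
  · -- three points
    obtain ⟨z, hz, hzx, hzy⟩ : ∃ z, cl A z = cl A x ∧ z ≠ x ∧ z ≠ y := by
      by_contra hcon
      push Not at hcon
      have hsur : Function.Surjective (![⟨x, rfl⟩, ⟨y, hy⟩] : Fin 2 → Fib A (cl A x)) := by
        intro u
        by_cases e1 : u.1 = x
        · exact ⟨0, Subtype.ext e1.symm⟩
        · exact ⟨1, Subtype.ext (hcon u.1 u.2 e1).symm⟩
      have h' := Nat.card_le_card_of_surjective _ hsur
      rw [h3, Nat.card_fin] at h'
      omega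
    have hthree : ∀ u, cl A u = cl A x → u = x ∨ u = y ∨ u = z := by
      intro u hu
      by_contra hcon
      push Not at hcon
      obtain ⟨u1, u2, u3⟩ := hcon
      have h' := card_le_fib (A := A) (o := cl A x) {u, z, y, x}
        (by simp only [Finset.mem_insert, Finset.mem_singleton]
            rintro w' (rfl | rfl | rfl | rfl)
            exacts [hu, hz, hy, rfl])
      rw [h3, Finset.card_insert_of_notMem (by simp [u3, u2, u1]),
        Finset.card_insert_of_notMem (by simp [hzy, hzx]), Finset.card_pair hfix] at h'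
      omega
    have hgen : ∀ s : Equiv.Perm α, s x = y → (∀ u, cl A u = cl A x → cl A (s u) = cl A x) →
        (∀ u, cl A u = cl A x → s u ≠ u) → s y = z ∧ s z = x := by
      intro s sx scl sfree
      have e1 : s z = x := by
        rcases hthree _ (scl z hz) with e | e | e
        · exact e
        · exact absurd (s.injective (e.trans sx.symm)) hzx
        · exact absurd e (sfree z hz)
      refine ⟨?_, e1⟩
      rcases hthree _ (scl y hy) with e | e | e
      · exact absurd (s.injective (e.trans e1.symm)) hzy.symm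
      · exact absurd e (sfree y hy)
      · exact e
    obtain ⟨a1, a2⟩ := hgen a rfl hcla fun u hu => (hfree u hu).1
    obtain ⟨b1, b2⟩ := hgen w hax.symm hclw fun u hu => (hfree u hu).2
    rcases hthree v hvA with e | e | e
    · exact absurd e hvx
    · rw [e]; exact a1.trans b1.symm
    · rw [e]; exact a2.trans b2.symm
  · -- four points
    have h4B : ∀ u, cl A u = cl A x → Nat.card (Fib B (cl B u)) = 4 := fun u hu => by
      rw [(he u x).1 hu, heq, h4]
    have hsa : ∀ u, cl A u = cl A x → a (a u) = u := fun u hu =>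
      h.sq_fix hn h5 (by rw [hu, h4]) ⟨a, ha⟩
    have hsw : ∀ u, cl A u = cl A x → w (w u) = u := fun u hu => hB.sq_fix hn h5 (h4B u hu) b
    have hay : a y = x := hsa x rfl
    have hwy : w y = x := by rw [hax]; exact hsw x rfl
    by_cases hvy : v = y
    · rw [hvy, hay, hwy]
    have hfour : ∀ u, cl A u = cl A x → u ≠ x → u ≠ y → u ≠ v → u = a v := by
      intro u hu u1 u2 u3
      by_contra u4
      have hav : cl A (a v) = cl A x := hcla v hvA
      have a1 : a v ≠ x := fun e => hvy (a.injective (e.trans hay.symm))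
      have a2 : a v ≠ y := fun e => hvx (a.injective e)
      have a3 : a v ≠ v := (hfree v hvA).1
      have h' := card_le_fib (A := A) (o := cl A x) {u, a v, v, y, x}
        (by simp only [Finset.mem_insert, Finset.mem_singleton]
            rintro w' (rfl | rfl | rfl | rfl | rfl)
            exacts [hu, hav, hvA, hy, rfl])
      rw [h4, Finset.card_insert_of_notMem (by simp [u4, u3, u2, u1]),
        Finset.card_insert_of_notMem (by simp [a3, a2, a1]),
        Finset.card_insert_of_notMem (by simp [hvy, hvx]), Finset.card_pair hfix] at h'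
      omega
    exact (hfour (w v) (hclw v hvA) (fun e => hvy (w.injective (e.trans hwy.symm)))
      (fun e => hvx (w.injective (e.trans hax))) (hfree v hvA).2).symm

theorem IsMax.map_conj (h : IsMax A) (π : Equiv.Perm α) :
    IsMax (A.map (MulAut.conj π).toMonoidHom) := by
  haveI := h.comm
  refine ⟨inferInstance, ?_, ?_⟩
  · rintro _ ⟨a, ha, rfl⟩
    show Equiv.Perm.sign (π * a * π⁻¹) = 1
    rw [map_mul, map_mul, h.even a ha, mul_one, map_inv, mul_inv_cancel]
  · rw [Subgroup.card_map_of_injective (MulAut.conj π).injective]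
    exact h.card

theorem cl_map_iff (π : Equiv.Perm α) (x y : α) :
    cl (A.map (MulAut.conj π).toMonoidHom) (π x) = cl (A.map (MulAut.conj π).toMonoidHom) (π y) ↔
      cl A x = cl A y := by
  constructor <;> intro h
  · obtain ⟨⟨_, a, ha, rfl⟩, e⟩ := exists_apply_eq _ h
    have e' : π (a (π⁻¹ (π y))) = π x := e
    rw [show π⁻¹ (π y) = y from π.symm_apply_apply y] at e'
    rw [← π.injective e']
    exact cl_smul A ⟨a, ha⟩ y
  · obtain ⟨a, rfl⟩ := exists_apply_eq A h
    have e : π ((a : Equiv.Perm α) y) =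
        ((⟨_, Subgroup.mem_map_of_mem (MulAut.conj π).toMonoidHom a.2⟩ :
          A.map (MulAut.conj π).toMonoidHom) : Equiv.Perm α) (π y) := by
      show π ((a : Equiv.Perm α) y) = π ((a : Equiv.Perm α) (π⁻¹ (π y)))
      rw [show π⁻¹ (π y) = y from π.symm_apply_apply y]
    rw [e]
    exact cl_smul _ _ _

/-- Largest groups have the same orbit sizes, so their partitions differ by an even permutation. -/
theorem exists_even_perm {B : Subgroup (Equiv.Perm α)} (h : IsMax A) (hB : IsMax B)
    (hn : 3 ≤ Fintype.card α) (h5 : Fintype.card α ≠ 5) :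
    ∃ π : Equiv.Perm α, Equiv.Perm.sign π = 1 ∧
      ∀ x y, cl A x = cl A y ↔ cl B (π x) = cl B (π y) := by
  classical
  haveI : Fintype (Orb A) := Fintype.ofFinite _
  haveI : Fintype (Orb B) := Fintype.ofFinite _
  have hcount : ∀ C : Subgroup (Equiv.Perm α), IsMax C → ∀ [Fintype (Orb C)],
      3 * (Finset.univ.filter fun o : Orb C => Nat.card (Fib C o) = 3).card +
        4 * (Finset.univ.filter fun o : Orb C => Nat.card (Fib C o) = 4).card = Fintype.card α ∧
      (Finset.univ.filter fun o : Orb C => Nat.card (Fib C o) = 4).card ≤ 2 := by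
    intro C hC _
    haveI := hC.comm
    obtain ⟨h1, h2, -⟩ := hC.shape hn h5
    refine ⟨?_, h2⟩
    rw [← sum_card_fib C, ← Finset.sum_filter_add_sum_filter_not Finset.univ
      (fun o : Orb C => Nat.card (Fib C o) = 3)]
    have hf : (Finset.univ.filter fun o : Orb C => ¬ Nat.card (Fib C o) = 3) =
        Finset.univ.filter fun o : Orb C => Nat.card (Fib C o) = 4 := by
      refine Finset.filter_congr fun o _ => ?_
      have := h1 o
      constructor <;> intro <;> omega
    rw [hf, Finset.sum_congr rfl fun o ho => (Finset.mem_filter.1 ho).2,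
      Finset.sum_congr rfl fun o ho => (Finset.mem_filter.1 ho).2, Finset.sum_const, Finset.sum_const,
      smul_eq_mul, smul_eq_mul, mul_comm 3, mul_comm 4]
  obtain ⟨a1, a2⟩ := hcount A h
  obtain ⟨b1, b2⟩ := hcount B hB
  have hfib : ∀ k : ℕ, Nonempty ({o : Orb A // Nat.card (Fib A o) = k} ≃
      {o : Orb B // Nat.card (Fib B o) = k}) := by
    intro k
    refine ⟨Fintype.equivOfCardEq ?_⟩
    rw [Fintype.card_subtype, Fintype.card_subtype]
    by_cases k3 : k = 3
    · subst k3; omega
    by_cases k4 : k = 4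
    · subst k4; omega
    rw [Finset.filter_false_of_mem (fun o _ => by rcases (h.shape hn h5).1 o with e | e <;> omega),
      Finset.filter_false_of_mem (fun o _ => by rcases (hB.shape hn h5).1 o with e | e <;> omega)]
    simp
  let e : Orb A ≃ Orb B := Equiv.ofFiberEquiv (f := fun o : Orb A => Nat.card (Fib A o))
    (g := fun o : Orb B => Nat.card (Fib B o)) fun k => (hfib k).some
  have he : ∀ o, Nat.card (Fib B (e o)) = Nat.card (Fib A o) := fun o =>
    Equiv.ofFiberEquiv_map (f := fun o : Orb A => Nat.card (Fib A o))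
      (g := fun o : Orb B => Nat.card (Fib B o)) (fun k => (hfib k).some) o
  let π₀ : Equiv.Perm α := (Equiv.sigmaFiberEquiv (cl A)).symm.trans
    ((Equiv.sigmaCongr e fun o => (Finite.card_eq.1 (he o).symm).some).trans
      (Equiv.sigmaFiberEquiv (cl B)))
  have hπ : ∀ x, cl B (π₀ x) = e (cl A x) := fun x =>
    ((Equiv.sigmaCongr e fun o => (Finite.card_eq.1 (he o).symm).some)
      ((Equiv.sigmaFiberEquiv (cl A)).symm x)).2.2
  have hrel : ∀ x y, cl A x = cl A y ↔ cl B (π₀ x) = cl B (π₀ y) := fun x y => by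
    rw [hπ, hπ, e.apply_eq_iff_eq]
  rcases Int.units_eq_one_or (Equiv.Perm.sign π₀) with hs | hs
  · exact ⟨π₀, hs, hrel⟩
  obtain ⟨x₀⟩ : Nonempty α := Fintype.card_pos_iff.1 (by omega)
  obtain ⟨y₀, hy₀, hne⟩ : ∃ y, cl A y = cl A x₀ ∧ y ≠ x₀ := by
    by_contra hcon
    push Not at hcon
    haveI : Subsingleton (Fib A (cl A x₀)) :=
      ⟨fun u v => Subtype.ext ((hcon u.1 u.2).trans (hcon v.1 v.2).symm)⟩
    have h1 : Nat.card (Fib A (cl A x₀)) ≤ 1 := Finite.card_le_one_iff_subsingleton.2 inferInstance
    rcases (h.shape hn h5).1 (cl A x₀) with e' | e' <;> omega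
  have hswap : ∀ u, cl A (Equiv.swap x₀ y₀ u) = cl A u := fun u => by
    rcases eq_or_ne u x₀ with rfl | h1
    · rw [Equiv.swap_apply_left, hy₀]
    rcases eq_or_ne u y₀ with rfl | h2
    · rw [Equiv.swap_apply_right, hy₀]
    · rw [Equiv.swap_apply_of_ne_of_ne h1 h2]
  refine ⟨π₀ * Equiv.swap x₀ y₀, by rw [map_mul, hs, Equiv.Perm.sign_swap hne.symm]; decide,
    fun x y => ?_⟩
  rw [Equiv.Perm.mul_apply, Equiv.Perm.mul_apply, ← hrel, hswap, hswap]

theorem exists_conj {B : Subgroup (Equiv.Perm α)} (h : IsMax A) (hB : IsMax B)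
    (hn : 3 ≤ Fintype.card α) (h5 : Fintype.card α ≠ 5) :
    ∃ π : Equiv.Perm α, Equiv.Perm.sign π = 1 ∧ A.map (MulAut.conj π).toMonoidHom = B := by
  obtain ⟨π, hs, hrel⟩ := exists_even_perm h hB hn h5
  have he : ∀ u v, cl (A.map (MulAut.conj π).toMonoidHom) u = cl (A.map (MulAut.conj π).toMonoidHom) v
      ↔ cl B u = cl B v := fun u v => by
    obtain ⟨x, rfl⟩ := π.surjective u
    obtain ⟨y, rfl⟩ := π.surjective v
    rw [cl_map_iff, hrel]
  exact ⟨π, hs, le_antisymm ((h.map_conj π).le_of_orbits hB hn h5 he)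
    (hB.le_of_orbits (h.map_conj π) hn h5 fun u v => (he u v).symm)⟩

end Cfsg.Agent.Perm.AbelianEven
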